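import Mathlib
import Groth.Prelude
import Groth.Agent.Lib.Helper7.Hensel.FiniteDecompMain
import Groth.Agent.Lib.Helper7.Hensel.FiniteLocal
import Groth.Agent.Lib.Helper7.InterField.Crux
import Groth.Agent.Lib.Helper3.MonoSep

/-!
# Finite subalgebras of a local ring over a henselian local ring

* a finite algebra over a henselian local ring which embeds into a local ring is local;
* the inclusion is then a local homomorphism;
* the maximal finite étale local subalgebra with the same residue field (Hensel lifting of a
  primitive element).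
-/

set_option linter.style.haveILetI false
set_option linter.unusedVariables false
set_option linter.unusedSectionVars false
set_option linter.overlappingInstances false
set_option autoImplicit false
set_option backward.isDefEq.respectTransparency.types false
set_option backward.isDefEq.respectTransparency false
set_option synthInstance.maxHeartbeats 400000
set_option maxHeartbeats 1600000

universe u

open IsLocalRing TensorProduct

namespace Groth.Agent.Helper7.EtInter

theorem isLocalRing_of_injective (A : Type u) [CommRing A] [HenselianLocalRing A]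
    (D : Type u) [CommRing D] [Algebra A D] [Module.Finite A D]
    (S : Type u) [CommRing S] [IsLocalRing S] (j : D →+* S) (hj : Function.Injective j) :
    IsLocalRing D := by
  classical
  obtain ⟨ι, hι, B, hB, hloc, ⟨e⟩⟩ := Groth.Agent.Helper7.Hensel.exists_ringEquiv_pi_local A D
  haveI := hι
  haveI := hloc
  haveI : Nontrivial D := ⟨⟨0, 1, fun h => by
    have h1 := congrArg j h
    rw [map_zero, map_one] at h1
    exact zero_ne_one h1⟩⟩
  have hidem : ∀ x : D, IsIdempotentElem x → x = 0 ∨ x = 1 := by
    intro x hx
    have hx' : IsIdempotentElem (j x) := hx.map j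
    have h1 : j x * (1 - j x) = 0 := by rw [mul_sub, mul_one, hx'.eq, sub_self]
    rcases IsLocalRing.isUnit_or_isUnit_one_sub_self (j x) with hu | hu
    · right
      apply hj
      rw [map_one]
      have h2 : 1 - j x = 0 := hu.mul_right_eq_zero.mp h1
      exact (sub_eq_zero.mp h2).symm
    · left
      apply hj
      rw [map_zero]
      exact hu.mul_left_eq_zero.mp h1
  haveI hne : Nonempty ι := by
    by_contra hempty
    rw [not_nonempty_iff] at hempty
    have h1 : (1 : D) = 0 := e.injective (Subsingleton.elim _ _)
    exact one_ne_zero h1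
  have hsub : Subsingleton ι := by
    constructor
    intro i i'
    by_contra hne'
    have hx : IsIdempotentElem (e.symm (Pi.single i 1)) := by
      show e.symm (Pi.single i 1) * e.symm (Pi.single i 1) = e.symm (Pi.single i 1)
      rw [← map_mul, ← Pi.single_mul, mul_one]
    rcases hidem _ hx with h0 | h1
    · have h2 := congrArg (fun y => e y i) h0
      simp only [RingEquiv.apply_symm_apply, Pi.single_eq_same, map_zero, Pi.zero_apply] at h2
      exact one_ne_zero h2
    · have h2 := congrArg (fun y => e y i') h1
      simp only [RingEquiv.apply_symm_apply, map_one, Pi.one_apply] at h2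
      rw [Pi.single_eq_of_ne (Ne.symm hne')] at h2
      exact zero_ne_one h2
  obtain ⟨i0⟩ := hne
  haveI : Unique ι := { default := i0, uniq := fun i => Subsingleton.elim _ _ }
  exact RingEquiv.isLocalRing ((e.trans (RingEquiv.piUnique B)).symm)

theorem isLocalHom_of_finite_tower (A D S : Type u) [CommRing A] [IsLocalRing A]
    [CommRing D] [IsLocalRing D] [Algebra A D] [Module.Finite A D]
    [CommRing S] [IsLocalRing S] [Algebra A S] [IsLocalHom (algebraMap A S)]
    [Algebra D S] [IsScalarTower A D S] : IsLocalHom (algebraMap D S) := by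
  constructor
  intro x hx
  by_contra hnu
  have hxm : x ∈ Ideal.jacobson (⊥ : Ideal D) := by
    rw [IsLocalRing.jacobson_eq_maximalIdeal ⊥ bot_ne_top]
    exact (IsLocalRing.mem_maximalIdeal x).mpr hnu
  obtain ⟨n, hn⟩ :=
    Groth.Agent.Helper7.Hensel.exists_pow_mem_map_maximalIdeal_of_mem_jacobson (R := A) x hxm
  have hloc : IsLocalHom (algebraMap A S) := inferInstance
  have hle : (maximalIdeal A).map (algebraMap A S) ≤ maximalIdeal S :=
    ((IsLocalRing.local_hom_TFAE (algebraMap A S)).out 0 2).mp hloc
  have h2 : ((maximalIdeal A).map (algebraMap A D)).map (algebraMap D S) ≤ maximalIdeal S := by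
    rw [Ideal.map_map, ← IsScalarTower.algebraMap_eq]
    exact hle
  have h1 : (algebraMap D S) (x ^ n) ∈ maximalIdeal S := h2 (Ideal.mem_map_of_mem _ hn)
  rw [map_pow] at h1
  have h3 : algebraMap D S x ∈ maximalIdeal S :=
    Ideal.IsPrime.mem_of_pow_mem inferInstance n h1
  exact (IsLocalRing.mem_maximalIdeal _).mp h3 hx

open Polynomial in
theorem exists_etale_sub (A : Type u) [CommRing A] [HenselianLocalRing A]
    (D : Type u) [CommRing D] [IsLocalRing D] [Algebra A D] [Module.Finite A D]
    [IsLocalHom (algebraMap A D)]
    [Algebra.IsSeparable (ResidueField A) (ResidueField D)] :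
    ∃ (E : Type u) (_ : CommRing E) (_ : Algebra A E) (_ : IsLocalRing E) (f : E →ₐ[A] D),
      Module.Finite A E ∧ Algebra.Etale A E ∧
      Function.Surjective ((residue D).comp (f : E →+* D)) := by
  classical
  haveI : Module.Finite (ResidueField A) (ResidueField D) := inferInstance
  obtain ⟨α, hα⟩ := Field.exists_primitive_element (ResidueField A) (ResidueField D)
  have hint : IsIntegral (ResidueField A) α := Algebra.IsIntegral.isIntegral α
  have hgbm : (minpoly (ResidueField A) α).Monic := minpoly.monic hint
  have hgbs : (minpoly (ResidueField A) α).Separable :=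
    Algebra.IsSeparable.isSeparable (ResidueField A) α
  have hlift : minpoly (ResidueField A) α ∈ Polynomial.lifts (residue A) :=
    (Polynomial.mem_lifts _).mpr
      (Polynomial.map_surjective _ IsLocalRing.residue_surjective _)
  obtain ⟨g, hg, hgdeg, hgm⟩ := Polynomial.lifts_and_natDegree_eq_and_monic hlift hgbm
  have hgs : g.Separable :=
    Groth.Agent.Helper3.MonoSep.separable_of_map_residue g hgm (by rw [hg]; exact hgbs)
  have hfin : Module.Finite A (AdjoinRoot g) := hgm.finite_adjoinRoot
  have het : Algebra.Etale A (AdjoinRoot g) :=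
    Algebra.Etale.of_equiv (Groth.Agent.Helper3.MonoSep.pairRingEquiv g hgm hgs)
  haveI hDh : HenselianLocalRing D := Groth.Agent.Helper7.Hensel.henselianLocalRing_of_finite A D
  obtain ⟨a₀, ha₀⟩ := IsLocalRing.residue_surjective α
  have hfm : (g.map (algebraMap A D)).Monic := hgm.map _
  have hfmap : (g.map (algebraMap A D)).map (residue D) =
      (minpoly (ResidueField A) α).map (algebraMap (ResidueField A) (ResidueField D)) := by
    rw [Polynomial.map_map, ← Groth.Agent.Helper7.InterField.residue_comp, ← Polynomial.map_map, hg]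
  have h1 : (g.map (algebraMap A D)).eval a₀ ∈ maximalIdeal D := by
    rw [← residue_eq_zero_iff, Groth.Agent.Helper7.InterField.residue_eval, hfmap, ha₀,
      Polynomial.eval_map, ← Polynomial.aeval_def]
    exact minpoly.aeval _ α
  have h2 : IsUnit ((g.map (algebraMap A D)).derivative.eval a₀) := by
    rw [← residue_ne_zero_iff_isUnit, Groth.Agent.Helper7.InterField.residue_eval,
      ← Polynomial.derivative_map, hfmap,
      Polynomial.derivative_map, ha₀, Polynomial.eval_map, ← Polynomial.aeval_def]
    exact hgbs.aeval_derivative_ne_zero (minpoly.aeval _ α)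
  obtain ⟨ζ, hζroot, hζsub⟩ := hDh.is_henselian (g.map (algebraMap A D)) hfm a₀ h1 h2
  have hζres : residue D ζ = α := by
    have h3 : residue D (ζ - a₀) = 0 := (residue_eq_zero_iff _).mpr hζsub
    rw [map_sub, sub_eq_zero] at h3
    rw [h3, ha₀]
  have hζ0 : Polynomial.eval₂ (algebraMap A D) ζ g = 0 := by
    have h3 : (g.map (algebraMap A D)).eval ζ = 0 := hζroot
    rwa [Polynomial.eval_map] at h3
  let f : AdjoinRoot g →ₐ[A] D := AdjoinRoot.liftAlgHom g (Algebra.ofId A D) ζ hζ0
  have hfroot : f (AdjoinRoot.root g) = ζ := by simp [f]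
  -- the closed fibre of `AdjoinRoot g` is a field
  have hirr : Irreducible (g.map (Ideal.Quotient.mk (maximalIdeal A))) := by
    have h3 : g.map (Ideal.Quotient.mk (maximalIdeal A)) = minpoly (ResidueField A) α := hg
    rw [h3]
    exact minpoly.irreducible hint
  have hmaxI : ((maximalIdeal A).map (AdjoinRoot.of g)).IsMaximal := by
    haveI : Fact (Irreducible (g.map (residue A))) :=
      ⟨by rw [hg]; exact minpoly.irreducible hint⟩
    apply Ideal.Quotient.maximal_of_isField
    exact MulEquiv.isField
      (Field.toIsField (AdjoinRoot (g.map (residue A))))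
      (AdjoinRoot.quotEquivQuotMap g (maximalIdeal A)).toRingEquiv.toMulEquiv
  haveI hEloc : IsLocalRing (AdjoinRoot g) := by
    haveI : Algebra.IsIntegral A (AdjoinRoot g) := Algebra.IsIntegral.of_finite A _
    refine IsLocalRing.of_unique_max_ideal ⟨(maximalIdeal A).map (AdjoinRoot.of g), hmaxI, ?_⟩
    intro 𝔫 h𝔫
    haveI := h𝔫
    have h3 : (𝔫.comap (algebraMap A (AdjoinRoot g))).IsMaximal :=
      Ideal.isMaximal_comap_of_isIntegral_of_isMaximal (R := A) 𝔫
    have h4 : 𝔫.comap (algebraMap A (AdjoinRoot g)) = maximalIdeal A :=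
      IsLocalRing.eq_maximalIdeal h3
    have h5 : (maximalIdeal A).map (AdjoinRoot.of g) ≤ 𝔫 := by
      rw [← AdjoinRoot.algebraMap_eq, Ideal.map_le_iff_le_comap, h4]
    exact (hmaxI.eq_of_le h𝔫.ne_top h5).symm
  refine ⟨AdjoinRoot g, inferInstance, inferInstance, hEloc, f, hfin, het, ?_⟩
  intro y
  have hadjκ : Algebra.adjoin (ResidueField A) {α} = ⊤ := by
    have h3 := IntermediateField.adjoin_simple_toSubalgebra_of_isAlgebraic hint.isAlgebraic
    rw [hα] at h3
    rw [← h3]
    rfl
  have hy : y ∈ Algebra.adjoin (ResidueField A) {α} := by rw [hadjκ]; trivial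
  rw [Algebra.adjoin_singleton_eq_range_aeval] at hy
  obtain ⟨pb, hpb⟩ := hy
  obtain ⟨p, rfl⟩ := Polynomial.map_surjective _ IsLocalRing.residue_surjective pb
  refine ⟨Polynomial.aeval (AdjoinRoot.root g) p, ?_⟩
  show residue D (f (Polynomial.aeval (AdjoinRoot.root g) p)) = y
  rw [← Polynomial.aeval_algHom_apply, hfroot, Groth.Agent.Helper7.InterField.residue_aeval, hζres]
  exact hpb

end Groth.Agent.Helper7.EtInter
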