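import Mathlib
import Groth.Prelude
import Groth.Agent.Lib.Helper7.EtInter.Local
import Groth.Agent.Lib.Helper7.SHensFinite
import Groth.Agent.Lib.Helper7.SHens.Main
import Groth.Agent.Lib.Helper7.SHens.Abstract
import Groth.Agent.Lib.Helper7.Hensel.IntegralDomain
import Groth.Agent.Lib.Helper9.FE.OlivE
import Groth.Agent.Lib.Helper8.SHExt3
import Groth.Agent.Lib.Helper8.HensCpl2
import Groth.Agent.S0539

/-!
# A finite local subalgebra of the strict henselization with trivial residue extension

`A` excellent henselian reduced local, `S` a strict henselization, `D` a finite local `A`-algebra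
embedded in `S` with the same residue field as `A`.  If the residue fields of the normalization of
`D` are purely inseparable over that of `D`, then `D = A`.

Proof: `T = D ⊗_A S` is local and a strict henselization of `D`; by helper8's `SHExt.main` its
minimal primes are extended from `D`; the multiplication `μ : T → S` is then injective
(incomparability over `S`), and faithful flatness of `S` over `A` gives `A = D`.
-/

set_option linter.style.haveILetI false
set_option linter.unusedVariables false
set_option linter.unusedSectionVars false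
set_option linter.overlappingInstances false
set_option autoImplicit false
set_option backward.isDefEq.respectTransparency.types false
set_option backward.isDefEq.respectTransparency false
set_option synthInstance.maxHeartbeats 400000
set_option maxHeartbeats 1600000

universe u

open IsLocalRing TensorProduct

namespace Groth.Agent.Helper7.EtInter

section Tensor

variable (A S D : Type u) [CommRing A] [HenselianLocalRing A]
  [CommRing S] [IsLocalRing S] [Algebra A S] [IsLocalHom (algebraMap A S)]
  [CommRing D] [IsLocalRing D] [Algebra A D] [Module.Finite A D] [IsLocalHom (algebraMap A D)]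
  [Algebra D S] [IsScalarTower A D S]

attribute [local instance] Algebra.TensorProduct.rightAlgebra

/-- the multiplication map -/
noncomputable def mu : D ⊗[A] S →ₐ[A] S :=
  Algebra.TensorProduct.productMap (IsScalarTower.toAlgHom A D S) (AlgHom.id A S)

theorem mu_tmul (d : D) (s : S) : mu A S D (d ⊗ₜ[A] s) = algebraMap D S d * s := by
  simp [mu]

theorem isIntegral_right : Algebra.IsIntegral S (D ⊗[A] S) := by
  constructor
  intro t
  induction t using TensorProduct.induction_on with
  | zero => exact isIntegral_zero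
  | tmul d s =>
    have h1 : IsIntegral A (d ⊗ₜ[A] (1 : S)) :=
      (Algebra.IsIntegral.isIntegral (R := A) d).map
        (Algebra.TensorProduct.includeLeft : D →ₐ[A] D ⊗[A] S)
    have h2 : IsIntegral S (d ⊗ₜ[A] (1 : S)) := h1.tower_top
    have h3 : d ⊗ₜ[A] s = (d ⊗ₜ[A] (1 : S)) * algebraMap S (D ⊗[A] S) s := by
      rw [Algebra.TensorProduct.right_algebraMap_apply, Algebra.TensorProduct.tmul_mul_tmul,
        mul_one, one_mul]
    rw [h3]
    exact h2.mul isIntegral_algebraMap
  | add x y hx hy => exact hx.add hy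

theorem finite_right : Module.Finite S (D ⊗[A] S) := by
  have hfin : Module.Finite S (S ⊗[A] D) := inferInstance
  let g : S ⊗[A] D →ₗ[S] D ⊗[A] S :=
    { toFun := fun t => (TensorProduct.comm A S D) t
      map_add' := fun x y => map_add _ x y
      map_smul' := fun s t => by
        simp only [RingHom.id_apply]
        induction t using TensorProduct.induction_on with
        | zero => simp
        | tmul s' d =>
          rw [TensorProduct.smul_tmul', smul_eq_mul, TensorProduct.comm_tmul,
            TensorProduct.comm_tmul, Algebra.smul_def,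
            Algebra.TensorProduct.right_algebraMap_apply, Algebra.TensorProduct.tmul_mul_tmul,
            one_mul]
        | add x y hx hy => rw [smul_add, map_add, hx, hy, map_add, smul_add] }
  exact Module.Finite.of_surjective g
    (fun t => ⟨(TensorProduct.comm A S D).symm t, (TensorProduct.comm A S D).apply_symm_apply t⟩)

theorem isLocalRing_tensor [IsLocalHom (algebraMap D S)]
    (hres : Function.Surjective (algebraMap (ResidueField A) (ResidueField D))) :
    IsLocalRing (D ⊗[A] S) := by
  classical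
  haveI hint : Algebra.IsIntegral S (D ⊗[A] S) := isIntegral_right A S D
  have hlocAS : IsLocalHom (algebraMap A S) := inferInstance
  have hlocDS : IsLocalHom (algebraMap D S) := inferInstance
  have hleDS : (maximalIdeal D).map (algebraMap D S) ≤ maximalIdeal S :=
    ((IsLocalRing.local_hom_TFAE (algebraMap D S)).out 0 2).mp hlocDS
  have hleAS : maximalIdeal A ≤ (maximalIdeal S).comap (algebraMap A S) :=
    ((IsLocalRing.local_hom_TFAE (algebraMap A S)).out 0 3).mp hlocAS
  let ρ : D ⊗[A] S →+* ResidueField S := (residue S).comp (mu A S D : D ⊗[A] S →+* S)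
  have hρ : ∀ t, ρ t = residue S (mu A S D t) := fun t => rfl
  have hρsurj : Function.Surjective ρ := by
    intro y
    obtain ⟨s, rfl⟩ := residue_surjective y
    refine ⟨(1 : D) ⊗ₜ[A] s, ?_⟩
    rw [hρ, mu_tmul, map_one, one_mul]
  have hqmax : (RingHom.ker ρ).IsMaximal := RingHom.ker_isMaximal_of_surjective ρ hρsurj
  have hJq : (maximalIdeal D).map (algebraMap D (D ⊗[A] S)) ≤ RingHom.ker ρ := by
    rw [Ideal.map_le_iff_le_comap]
    intro d hd
    rw [Ideal.mem_comap, RingHom.mem_ker, hρ]
    show residue S (mu A S D (d ⊗ₜ[A] (1 : S))) = 0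
    rw [mu_tmul, mul_one, residue_eq_zero_iff]
    exact hleDS (Ideal.mem_map_of_mem _ hd)
  have hdec : ∀ t : D ⊗[A] S, ∃ s : S,
      t - (1 : D) ⊗ₜ[A] s ∈ (maximalIdeal D).map (algebraMap D (D ⊗[A] S)) := by
    intro t
    induction t using TensorProduct.induction_on with
    | zero => exact ⟨0, by simp⟩
    | tmul d s =>
      obtain ⟨a, ha⟩ : ∃ a : A, d - algebraMap A D a ∈ maximalIdeal D := by
        obtain ⟨z, hz⟩ := hres (residue D d)
        obtain ⟨a, rfl⟩ := residue_surjective z
        refine ⟨a, ?_⟩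
        rw [← residue_eq_zero_iff, map_sub, sub_eq_zero]
        exact hz.symm
      refine ⟨algebraMap A S a * s, ?_⟩
      have h4 : (algebraMap A D a) ⊗ₜ[A] s = (1 : D) ⊗ₜ[A] (algebraMap A S a * s) := by
        rw [Algebra.algebraMap_eq_smul_one (A := D) a, TensorProduct.smul_tmul, Algebra.smul_def]
      have h5 : d ⊗ₜ[A] s - (1 : D) ⊗ₜ[A] (algebraMap A S a * s) =
          algebraMap D (D ⊗[A] S) (d - algebraMap A D a) * ((1 : D) ⊗ₜ[A] s) := by
        rw [← h4]
        show _ = ((d - algebraMap A D a) ⊗ₜ[A] (1 : S)) * ((1 : D) ⊗ₜ[A] s)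
        rw [Algebra.TensorProduct.tmul_mul_tmul, mul_one, one_mul, TensorProduct.sub_tmul]
      rw [h5]
      exact Ideal.mul_mem_right _ _ (Ideal.mem_map_of_mem _ ha)
    | add x y hx hy =>
      obtain ⟨s₁, h₁⟩ := hx
      obtain ⟨s₂, h₂⟩ := hy
      refine ⟨s₁ + s₂, ?_⟩
      have h6 : x + y - (1 : D) ⊗ₜ[A] (s₁ + s₂) =
          (x - (1 : D) ⊗ₜ[A] s₁) + (y - (1 : D) ⊗ₜ[A] s₂) := by
        rw [TensorProduct.tmul_add]; ring
      rw [h6]
      exact Ideal.add_mem _ h₁ h₂
  refine IsLocalRing.of_unique_max_ideal ⟨RingHom.ker ρ, hqmax, ?_⟩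
  intro 𝔫 h𝔫
  haveI := h𝔫
  have hS : 𝔫.comap (algebraMap S (D ⊗[A] S)) = maximalIdeal S :=
    IsLocalRing.eq_maximalIdeal (Ideal.isMaximal_comap_of_isIntegral_of_isMaximal (R := S) 𝔫)
  have h1 : ∀ s ∈ maximalIdeal S, (1 : D) ⊗ₜ[A] s ∈ 𝔫 := by
    intro s hs
    rw [← hS, Ideal.mem_comap] at hs
    exact hs
  have hJn : (maximalIdeal D).map (algebraMap D (D ⊗[A] S)) ≤ 𝔫 := by
    rw [Ideal.map_le_iff_le_comap]
    intro d hd
    haveI : (𝔫.comap (algebraMap D (D ⊗[A] S))).IsPrime := Ideal.IsPrime.comap _
    have hdj : d ∈ Ideal.jacobson (⊥ : Ideal D) := by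
      rw [IsLocalRing.jacobson_eq_maximalIdeal ⊥ bot_ne_top]; exact hd
    obtain ⟨n, hn⟩ :=
      Groth.Agent.Helper7.Hensel.exists_pow_mem_map_maximalIdeal_of_mem_jacobson (R := A) d hdj
    have h3 : (maximalIdeal A).map (algebraMap A D) ≤ 𝔫.comap (algebraMap D (D ⊗[A] S)) := by
      rw [Ideal.map_le_iff_le_comap, Ideal.comap_comap, ← IsScalarTower.algebraMap_eq,
        IsScalarTower.algebraMap_eq A S (D ⊗[A] S), ← Ideal.comap_comap, hS]
      exact hleAS
    exact Ideal.IsPrime.mem_of_pow_mem inferInstance n (h3 hn)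
  have hle : RingHom.ker ρ ≤ 𝔫 := by
    intro t ht
    obtain ⟨s, hs⟩ := hdec t
    have h4 : (1 : D) ⊗ₜ[A] s ∈ RingHom.ker ρ := by
      have h5 : (1 : D) ⊗ₜ[A] s = t - (t - (1 : D) ⊗ₜ[A] s) := by ring
      rw [h5]
      exact Ideal.sub_mem _ ht (hJq hs)
    rw [RingHom.mem_ker, hρ, mu_tmul, map_one, one_mul, residue_eq_zero_iff] at h4
    have h6 : t = (t - (1 : D) ⊗ₜ[A] s) + (1 : D) ⊗ₜ[A] s := by ring
    rw [h6]
    exact Ideal.add_mem _ (hJn hs) (h1 s h4)
  exact (hqmax.eq_of_le h𝔫.ne_top hle).symm

theorem isStrictHenselization_tensor [Hensel.IsStrictHenselization A S]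
    [IsLocalRing (D ⊗[A] S)] [IsLocalHom (algebraMap D (D ⊗[A] S))] :
    Hensel.IsStrictHenselization D (D ⊗[A] S) := by
  obtain ⟨T', i1, i2, i3, i4, hT'⟩ := Groth.Agent.Helper7.SHens.exists_isStrictHenselization D
  haveI := hT'
  obtain ⟨q, hq, ⟨e₁⟩⟩ := Groth.Agent.Helper7.SHensFinite.S5072_main A D S T'
  haveI := hq
  have hqeq : q = maximalIdeal (D ⊗[A] S) := IsLocalRing.eq_maximalIdeal hq
  have hunits : q.primeCompl ≤ IsUnit.submonoid (D ⊗[A] S) := by
    intro x hx
    rw [IsUnit.mem_submonoid_iff]
    by_contra hnu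
    exact hx (by rw [hqeq]; exact (IsLocalRing.mem_maximalIdeal x).mpr hnu)
  let e₂ : (D ⊗[A] S) ≃ₐ[D ⊗[A] S] Localization.AtPrime q :=
    IsLocalization.atUnits (D ⊗[A] S) q.primeCompl hunits
  let e : T' ≃ₐ[D] D ⊗[A] S := ((e₂.restrictScalars D).trans e₁).symm
  haveI hfin : Module.Finite S (D ⊗[A] S) := finite_right A S D
  haveI hint : Algebra.IsIntegral S (D ⊗[A] S) := isIntegral_right A S D
  haveI : HenselianLocalRing S := Hensel.IsStrictHenselization.henselian A
  have hTh : HenselianLocalRing (D ⊗[A] S) :=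
    Groth.Agent.Helper7.Hensel.henselianLocalRing_of_finite S _
  haveI : IsLocalHom (algebraMap S (D ⊗[A] S)) :=
    Groth.Agent.Helper7.Hensel.isLocalHom_of_isIntegral
  haveI : IsSepClosed (ResidueField S) :=
    (Hensel.IsStrictHenselization.isSepClosure (R := A) (S := S)).sep_closed
  haveI : IsSepClosed (ResidueField (D ⊗[A] S)) :=
    Groth.Agent.Helper7.SHensGen.isSepClosed_residueField_of_isIntegral S _
  exact H9FE.OlivE.isStrictHenselization_of_algEquiv hTh e

theorem core [IsReduced A] (hA : EGA4.IsExcellent A) [Hensel.IsStrictHenselization A S]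
    (hinj : Function.Injective (algebraMap D S))
    (hres : Function.Surjective (algebraMap (ResidueField A) (ResidueField D)))
    (hD : ∀ (M : Ideal (integralClosure D (FractionRing D))) [M.IsMaximal],
      ∀ x : (integralClosure D (FractionRing D)) ⧸ M, ∃ n : ℕ,
        x ^ (ringExpChar ((integralClosure D (FractionRing D)) ⧸ M)) ^ n ∈
          ((Ideal.Quotient.mk M).comp
            (algebraMap D (integralClosure D (FractionRing D)))).range) :
    Function.Bijective (algebraMap A D) := by
  classical
  haveI : IsNoetherianRing A := hA.1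
  haveI : IsNoetherianRing D := Algebra.FiniteType.isNoetherianRing A D
  haveI : IsLocalHom (algebraMap D S) := isLocalHom_of_finite_tower A D S
  haveI : IsReduced S :=
    (Groth.Agent.Helper7.SHens.isReduced_iff_of_isStrictHenselization A S).mpr inferInstance
  haveI : IsReduced D := isReduced_of_injective (algebraMap D S) hinj
  haveI : HenselianLocalRing D := Groth.Agent.Helper7.Hensel.henselianLocalRing_of_finite A D
  haveI hTloc : IsLocalRing (D ⊗[A] S) := isLocalRing_tensor A S D hres
  have hμ := mu_tmul A S D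
  have hμσ : ∀ s : S, mu A S D (algebraMap S (D ⊗[A] S) s) = s := by
    intro s
    show mu A S D ((1 : D) ⊗ₜ[A] s) = s
    rw [hμ, map_one, one_mul]
  have hμD : ∀ d : D, mu A S D (algebraMap D (D ⊗[A] S) d) = algebraMap D S d := by
    intro d
    show mu A S D (d ⊗ₜ[A] (1 : S)) = _
    rw [hμ, mul_one]
  haveI hlocDT : IsLocalHom (algebraMap D (D ⊗[A] S)) := by
    constructor
    intro d hd
    have h1 : IsUnit (mu A S D (algebraMap D (D ⊗[A] S) d)) := hd.map (mu A S D)
    rw [hμD] at h1
    exact isUnit_of_map_unit (algebraMap D S) d h1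
  haveI hTsh : Hensel.IsStrictHenselization D (D ⊗[A] S) := isStrictHenselization_tensor A S D
  haveI := Groth.Agent.Helper8.HensCpl.isLocalHom_algebraMap_self D
  haveI : Hensel.IsHenselization D D := Groth.Agent.Helper8.HensCpl.isHenselization_self D
  have hP := (Groth.Agent.Helper8.SHExt.main D D (D ⊗[A] S)).mp hD
  haveI : IsReduced (D ⊗[A] S) :=
    (Groth.Agent.Helper7.SHens.isReduced_iff_of_isStrictHenselization D (D ⊗[A] S)).mpr
      inferInstance
  haveI : Module.FaithfullyFlat D (D ⊗[A] S) := Groth.Agent.S0539.result D (D ⊗[A] S)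
  haveI hint : Algebra.IsIntegral S (D ⊗[A] S) := isIntegral_right A S D
  have hker : ∀ P ∈ minimalPrimes (D ⊗[A] S),
      RingHom.ker (mu A S D : D ⊗[A] S →+* S) ≤ P := by
    intro P hPmin
    haveI hPprime : P.IsPrime := hPmin.1.1
    have hξ : P.comap (algebraMap D (D ⊗[A] S)) ∈ minimalPrimes D :=
      Groth.Agent.Helper8.HensCpl.comap_mem_minimalPrimes_of_hasGoingDown D (D ⊗[A] S) P hPmin
    have hξ' : P.comap (algebraMap D (D ⊗[A] S)) ∈
        ((⊥ : Ideal S).comap (algebraMap D S)).minimalPrimes := by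
      have h0 : (⊥ : Ideal S).comap (algebraMap D S) = ⊥ := by
        rw [← RingHom.ker_eq_comap_bot]
        exact (RingHom.injective_iff_ker_eq_bot _).mp hinj
      rw [h0]
      exact hξ
    obtain ⟨Q, hQmin, hQ⟩ := Ideal.exists_minimalPrimes_comap_eq (algebraMap D S) _ hξ'
    haveI hQprime : Q.IsPrime := hQmin.1.1
    haveI : (Q.comap (mu A S D : D ⊗[A] S →+* S)).IsPrime := Ideal.IsPrime.comap _
    have hkerP₁ : RingHom.ker (mu A S D : D ⊗[A] S →+* S) ≤
        Q.comap (mu A S D : D ⊗[A] S →+* S) := by
      intro t ht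
      rw [Ideal.mem_comap, RingHom.mem_ker.mp ht]
      exact Q.zero_mem
    have hPP₁ : P ≤ Q.comap (mu A S D : D ⊗[A] S →+* S) := by
      rw [hP P hPmin, Ideal.map_le_iff_le_comap]
      intro d hd
      have h1 : d ∈ Q.comap (algebraMap D S) := by rw [hQ]; exact hd
      rw [Ideal.mem_comap, Ideal.mem_comap]
      show mu A S D (algebraMap D (D ⊗[A] S) d) ∈ Q
      rw [hμD]
      exact h1
    have hc₁ : (Q.comap (mu A S D : D ⊗[A] S →+* S)).comap (algebraMap S (D ⊗[A] S)) = Q := by
      ext s
      rw [Ideal.mem_comap, Ideal.mem_comap]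
      show mu A S D (algebraMap S (D ⊗[A] S) s) ∈ Q ↔ _
      rw [hμσ]
    have hc : P.comap (algebraMap S (D ⊗[A] S)) = Q := by
      have hle : P.comap (algebraMap S (D ⊗[A] S)) ≤ Q := by
        rw [← hc₁]
        exact Ideal.comap_mono hPP₁
      haveI : (P.comap (algebraMap S (D ⊗[A] S))).IsPrime := Ideal.IsPrime.comap _
      exact le_antisymm hle (hQmin.2 ⟨inferInstance, bot_le⟩ hle)
    have hPeq : P = Q.comap (mu A S D : D ⊗[A] S →+* S) := by
      by_contra hne
      have hlt : P < Q.comap (mu A S D : D ⊗[A] S →+* S) := lt_of_le_of_ne hPP₁ hne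
      have h3 := Ideal.IsIntegral.comap_lt_comap (R := S) hlt
      rw [hc, hc₁] at h3
      exact lt_irrefl _ h3
    rw [hPeq]
    exact hkerP₁
  have hμinj : Function.Injective (mu A S D) := by
    rw [injective_iff_map_eq_zero]
    intro t ht
    have h1 : t ∈ sInf (minimalPrimes (D ⊗[A] S)) := by
      rw [Ideal.mem_sInf]
      intro P hP'
      exact hker P hP' (RingHom.mem_ker.mpr ht)
    rw [minimalPrimes, Ideal.sInf_minimalPrimes] at h1
    obtain ⟨n, hn⟩ := h1
    exact IsReduced.eq_zero t ⟨n, Ideal.mem_bot.mp hn⟩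
  haveI : Module.FaithfullyFlat A S := Groth.Agent.S0539.result A S
  constructor
  · have h1 : Function.Injective (algebraMap A S) := FaithfulSMul.algebraMap_injective A S
    rw [IsScalarTower.algebraMap_eq A D S] at h1
    exact Function.Injective.of_comp h1
  · have hsurjL : Function.Surjective ((Algebra.linearMap A D).lTensor S) := by
      intro t
      induction t using TensorProduct.induction_on with
      | zero => exact ⟨0, map_zero _⟩
      | tmul s d =>
        have h1 : d ⊗ₜ[A] s = (1 : D) ⊗ₜ[A] (algebraMap D S d * s) :=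
          hμinj (by rw [hμ, hμ, map_one, one_mul])
        refine ⟨(algebraMap D S d * s) ⊗ₜ[A] (1 : A), ?_⟩
        rw [LinearMap.lTensor_tmul, Algebra.linearMap_apply, map_one]
        have h2 := congrArg (TensorProduct.comm A D S) h1
        rw [TensorProduct.comm_tmul, TensorProduct.comm_tmul] at h2
        exact h2.symm
      | add x y hx hy =>
        obtain ⟨x', rfl⟩ := hx
        obtain ⟨y', rfl⟩ := hy
        exact ⟨x' + y', map_add _ _ _⟩
    have h3 : Function.Surjective (Algebra.linearMap A D) :=
      (Module.FaithfullyFlat.lTensor_surjective_iff_surjective (R := A) (M := S)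
        (f := Algebra.linearMap A D)).mp hsurjL
    intro d
    obtain ⟨a, ha⟩ := h3 d
    exact ⟨a, ha⟩

end Tensor

end Groth.Agent.Helper7.EtInter
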