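import Mathlib
import Groth.Prelude
import Groth.Agent.Lib.Helper7.EtInter.Core
import Groth.Agent.Lib.Helper7.EssEtSplit.Main
import Groth.Agent.Lib.Helper7.SemiNorm.Basic
import Groth.Agent.Lib.Helper8.Exc1
import Groth.Agent.Lib.Helper8.SHExt3
import Groth.Agent.Lib.Helper8.HensCpl2

/-!
# Finite subalgebras of the strict henselization: étale + extended minimal primes
  ⟺ residue fields of the normalization have trivial separable closure

`A` excellent henselian reduced local, `S` a strict henselization, `D` a finite `A`-algebra
embedded in `S`.  Then `D` is étale over `A` and the minimal primes of `S` are extended from `D`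
iff for every maximal ideal `M` of the normalization `N` of `D`, the image of `D` in `κ(M)` is
separably closed in `κ(M)`.

* `Y_of_X`, `X_of_Y` : conversion between "separable closure is `⊥`" and the "purely inseparable"
  form used in helper8's `SHExt.main`.
* `main` : the theorem.
-/

set_option linter.style.haveILetI false
set_option linter.unusedVariables false
set_option linter.unusedSectionVars false
set_option linter.overlappingInstances false
set_option autoImplicit false
set_option backward.isDefEq.respectTransparency.types false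
set_option backward.isDefEq.respectTransparency false
set_option synthInstance.maxHeartbeats 400000
set_option maxHeartbeats 1600000

universe u

open IsLocalRing TensorProduct

namespace Groth.Agent.Helper7.EtInter

section Conv

variable {D : Type u} [CommRing D] [IsLocalRing D]
  {N : Type u} [CommRing N] [Algebra D N] [Algebra.IsIntegral D N]
  (M : Ideal N) [M.IsMaximal]

local notation "fDM" => (RingHom.comp (algebraMap N (Ideal.ResidueField M)) (algebraMap D N))

theorem resMap_eq_zero_of_mem (d : D) (hd : d ∈ maximalIdeal D) :
    algebraMap N M.ResidueField (algebraMap D N d) = 0 := by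
  rw [Ideal.algebraMap_residueField_eq_zero]
  haveI hmax : (M.comap (algebraMap D N)).IsMaximal :=
    Ideal.isMaximal_comap_of_isIntegral_of_isMaximal M
  have h : M.comap (algebraMap D N) = maximalIdeal D := IsLocalRing.eq_maximalIdeal hmax
  have h2 : d ∈ M.comap (algebraMap D N) := by rw [h]; exact hd
  exact h2

theorem mem_range_of_mem_closure (y : M.ResidueField)
    (hy : y ∈ Subfield.closure (Set.range fDM)) : y ∈ Set.range fDM := by
  refine Subfield.closure_induction
    (p := fun x _ => x ∈ Set.range fDM)
    (fun x hx => hx) ⟨1, map_one _⟩ ?_ ?_ ?_ ?_ hy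
  · rintro _ _ _ _ ⟨a, rfl⟩ ⟨b, rfl⟩
    exact ⟨a + b, map_add _ _ _⟩
  · rintro _ _ ⟨a, rfl⟩
    exact ⟨-a, map_neg _ _⟩
  · rintro _ _ ⟨a, rfl⟩
    by_cases ha : a ∈ maximalIdeal D
    · refine ⟨0, ?_⟩
      have h0 : fDM a = 0 := resMap_eq_zero_of_mem M a ha
      rw [h0, inv_zero, map_zero]
    · have hu : IsUnit a := by
        by_contra hnu
        exact ha ((IsLocalRing.mem_maximalIdeal a).mpr hnu)
      obtain ⟨u, rfl⟩ := hu
      refine ⟨((u⁻¹ : Dˣ) : D), ?_⟩
      symm
      apply inv_eq_of_mul_eq_one_left
      rw [← map_mul, Units.inv_mul, map_one]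
  · rintro _ _ _ _ ⟨a, rfl⟩ ⟨b, rfl⟩
    exact ⟨a * b, map_mul _ _ _⟩

theorem isAlgebraic_closure :
    Algebra.IsAlgebraic (Subfield.closure (Set.range fDM)) M.ResidueField := by
  refine ⟨fun z => ?_⟩
  obtain ⟨n, rfl⟩ := Ideal.algebraMap_residueField_surjective M z
  obtain ⟨p, hp, hp0⟩ := Algebra.IsIntegral.isIntegral (R := D) n
  apply IsIntegral.isAlgebraic
  refine ⟨p.map (RingHom.codRestrict fDM (Subfield.closure (Set.range fDM))
      (fun d => Subfield.subset_closure ⟨d, rfl⟩)), hp.map _, ?_⟩
  rw [Polynomial.eval₂_map]
  have hcomp : (algebraMap (Subfield.closure (Set.range fDM)) M.ResidueField).comp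
      (RingHom.codRestrict fDM (Subfield.closure (Set.range fDM))
        (fun d => Subfield.subset_closure ⟨d, rfl⟩)) = fDM := by
    ext d
    rfl
  rw [hcomp, ← Polynomial.hom_eval₂, hp0, map_zero]

theorem Y_of_X
    (hX : separableClosure (Subfield.closure (Set.range fDM)) M.ResidueField = ⊥)
    (x : N ⧸ M) : ∃ n : ℕ, x ^ (ringExpChar (N ⧸ M)) ^ n ∈
      ((Ideal.Quotient.mk M).comp (algebraMap D N)).range := by
  haveI := isAlgebraic_closure (D := D) M
  haveI hpi : IsPurelyInseparable (Subfield.closure (Set.range fDM)) M.ResidueField :=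
    separableClosure.eq_bot_iff.mp hX
  have hφ := Ideal.bijective_algebraMap_quotient_residueField M
  haveI : ExpChar (N ⧸ M) (ringExpChar (N ⧸ M)) := ringExpChar.expChar _
  haveI : ExpChar M.ResidueField (ringExpChar (N ⧸ M)) :=
    expChar_of_injective_ringHom hφ.injective _
  obtain ⟨n, y, hy⟩ := IsPurelyInseparable.pow_mem (Subfield.closure (Set.range fDM))
    (ringExpChar (N ⧸ M)) (algebraMap (N ⧸ M) M.ResidueField x)
  obtain ⟨d, hd⟩ := mem_range_of_mem_closure M (y : M.ResidueField) y.2
  refine ⟨n, d, hφ.injective ?_⟩
  rw [map_pow, ← hy]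
  change algebraMap (N ⧸ M) M.ResidueField (Ideal.Quotient.mk M (algebraMap D N d)) =
    (y : M.ResidueField)
  rw [← hd]
  rfl

theorem X_of_Y
    (hY : ∀ x : N ⧸ M, ∃ n : ℕ, x ^ (ringExpChar (N ⧸ M)) ^ n ∈
      ((Ideal.Quotient.mk M).comp (algebraMap D N)).range) :
    separableClosure (Subfield.closure (Set.range fDM)) M.ResidueField = ⊥ := by
  haveI := isAlgebraic_closure (D := D) M
  have hφ := Ideal.bijective_algebraMap_quotient_residueField M
  haveI : ExpChar (N ⧸ M) (ringExpChar (N ⧸ M)) := ringExpChar.expChar _
  haveI : ExpChar M.ResidueField (ringExpChar (N ⧸ M)) :=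
    expChar_of_injective_ringHom hφ.injective _
  rw [separableClosure.eq_bot_iff,
    isPurelyInseparable_iff_pow_mem _ (ringExpChar (N ⧸ M))]
  intro z
  obtain ⟨x, rfl⟩ := hφ.surjective z
  obtain ⟨n, d, hd⟩ := hY x
  refine ⟨n, ⟨⟨fDM d, Subfield.subset_closure ⟨d, rfl⟩⟩, ?_⟩⟩
  rw [← map_pow, ← hd]
  rfl

end Conv

theorem main (A S : Type u) [CommRing A] [HenselianLocalRing A] [IsReduced A]
    (hA : EGA4.IsExcellent A)
    [CommRing S] [IsLocalRing S] [Algebra A S] [IsLocalHom (algebraMap A S)]
    [Hensel.IsStrictHenselization A S]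
    (D : Type u) [CommRing D] [Algebra A D] [Module.Finite A D] [Algebra D S]
    [IsScalarTower A D S] (hinj : Function.Injective (algebraMap D S)) :
    (Algebra.Etale A D ∧
        ∀ Q ∈ minimalPrimes S, Q = Ideal.map (algebraMap D S) (Q.comap (algebraMap D S))) ↔
      ∀ (M : Ideal (integralClosure D (FractionRing D))) [M.IsMaximal],
        separableClosure (Subfield.closure (Set.range
          ((algebraMap (integralClosure D (FractionRing D)) M.ResidueField).comp
            (algebraMap D (integralClosure D (FractionRing D)))))) M.ResidueField = ⊥ := by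
  classical
  haveI : IsNoetherianRing A := hA.1
  haveI : IsLocalRing D := isLocalRing_of_injective A D S (algebraMap D S) hinj
  haveI : IsLocalHom (algebraMap A D) := Groth.Agent.Helper7.Hensel.isLocalHom_of_isIntegral
  haveI : IsLocalHom (algebraMap D S) := isLocalHom_of_finite_tower A D S
  haveI : IsNoetherianRing D := Algebra.FiniteType.isNoetherianRing A D
  haveI : HenselianLocalRing D := Groth.Agent.Helper7.Hensel.henselianLocalRing_of_finite A D
  haveI : IsReduced S :=
    (Groth.Agent.Helper7.SHens.isReduced_iff_of_isStrictHenselization A S).mpr inferInstance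
  haveI : IsReduced D := isReduced_of_injective (algebraMap D S) hinj
  haveI := Groth.Agent.Helper8.HensCpl.isLocalHom_algebraMap_self D
  haveI : Hensel.IsHenselization D D := Groth.Agent.Helper8.HensCpl.isHenselization_self D
  constructor
  · rintro ⟨het, hext⟩
    haveI := het
    haveI : Hensel.IsStrictHenselization D S :=
      Groth.Agent.Helper7.EssEtSplit.isStrictHenselization_tower A D S
    have hY := (Groth.Agent.Helper8.SHExt.main D D S).mpr hext
    intro M _
    exact X_of_Y M (fun x => hY M x)
  · intro hX
    have hY : ∀ (M : Ideal (integralClosure D (FractionRing D))) [M.IsMaximal],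
        ∀ x : (integralClosure D (FractionRing D)) ⧸ M, ∃ n : ℕ,
          x ^ (ringExpChar ((integralClosure D (FractionRing D)) ⧸ M)) ^ n ∈
            ((Ideal.Quotient.mk M).comp
              (algebraMap D (integralClosure D (FractionRing D)))).range :=
      fun M _ x => Y_of_X M (hX M) x
    have hsc : IsSepClosure (ResidueField A) (ResidueField S) :=
      Hensel.IsStrictHenselization.isSepClosure
    haveI := hsc.separable
    haveI : Algebra.IsSeparable (ResidueField A) (ResidueField D) :=
      Algebra.isSeparable_tower_bot_of_isSeparable (ResidueField A) (ResidueField D)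
        (ResidueField S)
    obtain ⟨E, _, _, _, f, hfin, het, hsurj⟩ := exists_etale_sub A D
    haveI := hfin
    haveI := het
    letI : Algebra E D := f.toRingHom.toAlgebra
    letI : Algebra E S := ((algebraMap D S).comp f.toRingHom).toAlgebra
    haveI : IsScalarTower A E D := IsScalarTower.of_algebraMap_eq fun a => (f.commutes a).symm
    haveI : IsScalarTower E D S := IsScalarTower.of_algebraMap_eq fun e => rfl
    haveI : IsScalarTower A E S := IsScalarTower.of_algebraMap_eq fun a => by
      show algebraMap A S a = algebraMap D S (f (algebraMap A E a))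
      rw [f.commutes, ← IsScalarTower.algebraMap_apply]
    haveI : Module.Finite E D := Module.Finite.of_restrictScalars_finite A E D
    haveI : IsLocalHom (algebraMap A E) := Groth.Agent.Helper7.Hensel.isLocalHom_of_isIntegral
    haveI : IsLocalHom (algebraMap E D) := Groth.Agent.Helper7.Hensel.isLocalHom_of_isIntegral
    haveI : HenselianLocalRing E := Groth.Agent.Helper7.Hensel.henselianLocalRing_of_finite A E
    haveI : IsLocalHom (algebraMap E S) := Groth.Agent.Helper7.EssEtSplit.isLocalHom_top A E S
    haveI : Hensel.IsStrictHenselization E S :=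
      Groth.Agent.Helper7.EssEtSplit.isStrictHenselization_tower A E S
    haveI : IsReduced E := Groth.Agent.Helper7.SemiNorm.isReduced_of_unramified A
    have hEexc : EGA4.IsExcellent E :=
      Groth.Agent.Helper8.Exc.isExcellent_of_essFiniteType A hA E
    have hres : Function.Surjective (algebraMap (ResidueField E) (ResidueField D)) := by
      intro y
      obtain ⟨d, rfl⟩ := IsLocalRing.residue_surjective y
      obtain ⟨e, he⟩ := hsurj (residue D d)
      exact ⟨residue E e, he⟩
    have hbij : Function.Bijective (algebraMap E D) := core E S D hEexc hinj hres hY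
    let e : E ≃ₐ[A] D := AlgEquiv.ofBijective f hbij
    haveI hDet : Algebra.Etale A D := Algebra.Etale.of_equiv e
    haveI : Hensel.IsStrictHenselization D S :=
      Groth.Agent.Helper7.EssEtSplit.isStrictHenselization_tower A D S
    exact ⟨hDet, (Groth.Agent.Helper8.SHExt.main D D S).mp hY⟩

end Groth.Agent.Helper7.EtInter
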